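import Groth.Agent.LiftCxLib.Derived
import Mathlib.Algebra.Module.StablyFree.Basic

/-!
# The classes of projective, finite projective and stably free modules
-/

set_option autoImplicit false
set_option linter.style.haveILetI false

universe u

open CategoryTheory CategoryTheory.Limits
open scoped TensorProduct

namespace Groth.Agent.LiftCxLib

variable {R : Type u} [CommRing R] {I : Ideal R}

theorem red_of_free (ι : Type u) : Red I (Finsupp.mapRange.linearMap (α := ι) (Algebra.linearMap R (R ⧸ I))) := by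
  refine ⟨Finsupp.mapRange_surjective _ (map_zero (Algebra.linearMap R (R ⧸ I))) Ideal.Quotient.mk_surjective,
    le_antisymm (fun x hx => ?_) (Submodule.smul_le.2 fun r hr x _ => ?_)⟩
  · rw [← Finsupp.sum_single x]
    refine Submodule.sum_mem _ fun i _ => ?_
    rw [show Finsupp.single i (x i) = (x i) • Finsupp.single i (1 : R) by simp]
    exact Submodule.smul_mem_smul (Ideal.Quotient.eq_zero_iff_mem.1 (DFunLike.congr_fun (LinearMap.mem_ker.1 hx) i))
      Submodule.mem_top
  · rw [LinearMap.mem_ker]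
    ext i
    show Ideal.Quotient.mk I (r * x i) = 0
    exact Ideal.Quotient.eq_zero_iff_mem.2 (I.mul_mem_right _ hr)

/-- A reduction is a base change to the quotient. -/
theorem exists_tensor_of_red {X M : Type u} [AddCommGroup X] [Module R X] [AddCommGroup M] [Module R M]
    [Module (R ⧸ I) M] [IsScalarTower R (R ⧸ I) M] {p : X →ₗ[R] M} (hp : Red I p) :
    Nonempty ((R ⧸ I) ⊗[R] X ≃ₗ[R ⧸ I] M) := by
  refine ⟨LinearEquiv.ofBijective (p.liftBaseChange (R ⧸ I))
    ⟨(injective_iff_map_eq_zero _).2 fun z hz => ?_, fun m => ?_⟩⟩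
  · obtain ⟨x, rfl⟩ := (red_one_tmul I X).1 z
    rw [TensorProduct.mk_apply, LinearMap.liftBaseChange_tmul, one_smul] at hz
    have h : x ∈ LinearMap.ker p := hz
    rw [hp.ker, ← (red_one_tmul I X).2] at h
    exact h
  · obtain ⟨x, rfl⟩ := hp.surj m
    exact ⟨(1 : R ⧸ I) ⊗ₜ x, by rw [LinearMap.liftBaseChange_tmul, one_smul]⟩

theorem surjective_of_finite (hI : I ≤ Ideal.jacobson (⊥ : Ideal R)) (X Y : ModuleCat.{u} R) (f : X ⟶ Y)
    [Module.Finite R Y] (h : LinearMap.range f.hom ⊔ I • (⊤ : Submodule R Y) = ⊤) :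
    Function.Surjective f.hom :=
  LinearMap.range_eq_top.1 (top_le_iff.1
    (Submodule.le_of_le_smul_of_le_jacobson_bot Module.Finite.fg_top hI h.ge))

/-- Projective modules. -/
def Proj : ObjectProperty (ModuleCat.{u} R) := fun X => Module.Projective R X

theorem cls_proj (hI : IsNilpotent I) : Cls I (Proj (R := R)) where
  iso := ⟨fun e h => haveI : Module.Projective R _ := h
    (Module.Projective.of_equiv e.toLinearEquiv : Module.Projective R _)⟩
  proj X h := h
  cancel X Y _ h :=
    haveI : Module.Projective R (↥X × ↥Y) := h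
    (Module.Projective.of_split (LinearMap.inr R X Y) (LinearMap.snd R X Y)
      (LinearMap.ext fun _ => rfl) : Module.Projective R Y)
  surj X Y f _ _ h := by
    obtain ⟨k, hk⟩ := hI
    have : ∀ n, LinearMap.range f.hom ⊔ I ^ n • (⊤ : Submodule R Y) = ⊤ := fun n => by
      induction n with
      | zero => simp
      | succ n ih =>
        refine top_le_iff.1 (le_of_eq_of_le ih.symm (sup_le le_sup_left ?_))
        conv_lhs => rw [← h, Submodule.smul_sup, ← Submodule.mul_smul, ← pow_succ]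
        exact sup_le_sup Submodule.smul_le_right le_rfl
    have h2 := this k
    rw [hk, Ideal.zero_eq_bot, Submodule.bot_smul, sup_bot_eq] at h2
    exact LinearMap.range_eq_top.1 h2

/-- Finite projective modules. -/
def FinProj : ObjectProperty (ModuleCat.{u} R) := fun X => Module.Finite R X ∧ Module.Projective R X

theorem cls_finProj (hI : I ≤ Ideal.jacobson (⊥ : Ideal R)) : Cls I (FinProj (R := R)) where
  iso := ⟨fun e h => haveI := h.1; haveI := h.2
    ⟨Module.Finite.equiv e.toLinearEquiv, Module.Projective.of_equiv e.toLinearEquiv⟩⟩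
  proj X h := h.2
  cancel X Y _ h :=
    haveI : Module.Finite R (↥X × ↥Y) := h.1
    haveI : Module.Projective R (↥X × ↥Y) := h.2
    ⟨Module.Finite.of_surjective (LinearMap.snd R X Y) LinearMap.snd_surjective,
      Module.Projective.of_split (LinearMap.inr R X Y) (LinearMap.snd R X Y) (LinearMap.ext fun _ => rfl)⟩
  surj X Y f _ hY h := haveI := hY.1; surjective_of_finite hI X Y f h

/-- Finitely generated stably free modules. -/
def FinSF : ObjectProperty (ModuleCat.{u} R) := fun X => Module.Finite R X ∧ Module.IsStablyFree R X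

theorem cls_finSF (hI : I ≤ Ideal.jacobson (⊥ : Ideal R)) : Cls I (FinSF (R := R)) where
  iso := ⟨fun e h => haveI := h.1; haveI := h.2
    ⟨Module.Finite.equiv e.toLinearEquiv, Module.IsStablyFree.equiv e.toLinearEquiv⟩⟩
  proj X h := haveI := h.2; inferInstance
  cancel X Y hX h := by
    haveI := hX.1
    haveI : Module.Finite R (↥X × ↥Y) := h.1
    haveI := hX.2
    haveI : Module.IsStablyFree R (↥X × ↥Y) := h.2
    obtain ⟨N₁, _, _, _, _, _⟩ := Module.IsStablyFree.exist_free_prod R ↥X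
    obtain ⟨N₃, _, _, _, _, _⟩ := Module.IsStablyFree.exist_free_prod R (↥X × ↥Y)
    refine ⟨Module.Finite.of_surjective (LinearMap.snd R X Y) LinearMap.snd_surjective, ?_⟩
    let e : (((↥X × ↥Y) × N₃) × N₁) ≃ₗ[R] ↥Y × ((↥X × N₁) × N₃) :=
      { toFun := fun z => (z.1.1.2, ((z.1.1.1, z.2), z.1.2))
        invFun := fun z => (((z.2.1.1, z.1), z.2.2), z.2.1.2)
        left_inv := fun _ => rfl
        right_inv := fun _ => rfl
        map_add' := fun _ _ => rfl
        map_smul' := fun _ _ => rfl }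
    haveI : Module.Free R (↥Y × ((↥X × N₁) × N₃)) := Module.Free.of_equiv e
    exact Module.IsStablyFree.of_free_prod R ↥Y ((↥X × N₁) × N₃)
  surj X Y f _ hY h := haveI := hY.1; surjective_of_finite hI X Y f h

theorem finSF_prod (X Y : ModuleCat.{u} R) (hX : FinSF X) (hY : FinSF Y) :
    FinSF (ModuleCat.of R (↥X × ↥Y)) := by
  haveI := hX.1
  haveI := hY.1
  haveI := hX.2
  haveI := hY.2
  obtain ⟨N₁, _, _, _, _, _⟩ := Module.IsStablyFree.exist_free_prod R ↥X
  obtain ⟨N₂, _, _, _, _, _⟩ := Module.IsStablyFree.exist_free_prod R ↥Y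
  haveI : Module.Free R ((↥X × ↥Y) × (N₁ × N₂)) :=
    Module.Free.of_equiv (LinearEquiv.prodProdProdComm R ↥X N₁ ↥Y N₂)
  exact ⟨inferInstanceAs (Module.Finite R (↥X × ↥Y)),
    Module.IsStablyFree.of_free_prod R (↥X × ↥Y) (N₁ × N₂)⟩

/-- A finite stably free module over the quotient lifts. -/
theorem exists_finSF_lift (hI : I ≤ Ideal.jacobson (⊥ : Ideal R)) (M : Type u) [AddCommGroup M]
    [Module (R ⧸ I) M] [Module.Finite (R ⧸ I) M] [Module.IsStablyFree (R ⧸ I) M] :
    ∃ X : ModuleCat.{u} R, FinSF X ∧ Nonempty ((R ⧸ I) ⊗[R] X ≃ₗ[R ⧸ I] M) := by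
  classical
  obtain ⟨N, _, _, _, _, _⟩ := Module.IsStablyFree.exist_free_prod (R ⧸ I) M
  let bF := Module.Free.chooseBasis (R ⧸ I) (M × N)
  let bN := Module.Free.chooseBasis (R ⧸ I) N
  let ι := Module.Free.ChooseBasisIndex (R ⧸ I) (M × N)
  let κ := Module.Free.ChooseBasisIndex (R ⧸ I) N
  let π : (ι →₀ R ⧸ I) →ₗ[R ⧸ I] (κ →₀ R ⧸ I) :=
    bN.repr.toLinearMap ∘ₗ (LinearMap.snd (R ⧸ I) M N : M × N →ₗ[R ⧸ I] N) ∘ₗ bF.repr.symm.toLinearMap
  let pι := Finsupp.mapRange.linearMap (α := ι) (Algebra.linearMap R (R ⧸ I))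
  let pκ := Finsupp.mapRange.linearMap (α := κ) (Algebra.linearMap R (R ⧸ I))
  obtain ⟨f, hf⟩ := Module.projective_lifting_property pκ ((π.restrictScalars R) ∘ₗ pι) (red_of_free κ).surj
  have hf' : ∀ x, pκ (f x) = π (pι x) := LinearMap.congr_fun hf
  have hπ : Function.Surjective π :=
    bN.repr.surjective.comp ((LinearMap.snd_surjective (R := R ⧸ I)).comp bF.repr.symm.surjective)
  have hfs : Function.Surjective f := surjective_of_finite hI (ModuleCat.of R (ι →₀ R))
    (ModuleCat.of R (κ →₀ R)) (ModuleCat.ofHom f) (sup_smul_eq_top f pκ (red_of_free κ).ker fun y => by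
      obtain ⟨z, hz⟩ := hπ (pκ y)
      obtain ⟨x, rfl⟩ := (red_of_free (I := I) ι).surj z
      exact ⟨x, (hf' x).trans hz⟩)
  have hfree : ∀ (α : Type u) [Finite α], FinSF (ModuleCat.of R (α →₀ R)) := fun α _ =>
    ⟨inferInstanceAs (Module.Finite R (α →₀ R)), inferInstanceAs (Module.IsStablyFree R (α →₀ R))⟩
  have hc := cls_finSF (R := R) hI
  obtain ⟨⟨σ, hσ⟩, hX⟩ := hc.exists_section (hfree ι) (hfree κ) f hfs
  letI : Module R M := Module.compHom M (Ideal.Quotient.mk I)
  haveI : IsScalarTower R (R ⧸ I) M := IsScalarTower.of_algebraMap_smul fun _ _ => rfl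
  let φ : (ι →₀ R ⧸ I) →ₗ[R ⧸ I] M := LinearMap.fst (R ⧸ I) M N ∘ₗ bF.repr.symm.toLinearMap
  let p : LinearMap.ker f →ₗ[R] M :=
    { toFun := fun x => φ (pι (x : ι →₀ R))
      map_add' := fun x y => by simp
      map_smul' := fun r x => by
        show φ (pι (r • (x : ι →₀ R))) = Ideal.Quotient.mk I r • φ (pι (x : ι →₀ R))
        rw [map_smul pι, ← algebraMap_smul (R ⧸ I) r (pι (x : ι →₀ R)), map_smul φ]
        rfl }
  have hpi : ∀ x, f x = 0 → φ (pι x) = 0 → pι x = 0 := fun x hx h => by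
    have h2 : π (pι x) = 0 := by rw [← hf', hx, map_zero]
    have h3 : (bF.repr.symm (pι x)).2 = 0 := bN.repr.map_eq_zero_iff.1 h2
    exact bF.repr.symm.map_eq_zero_iff.1 (Prod.ext h h3)
  refine ⟨ModuleCat.of R (LinearMap.ker f), hX, exists_tensor_of_red (p := p)
    ⟨fun m => ?_, le_antisymm (fun x hx => ?_) (Submodule.smul_le.2 fun r hr x _ => ?_)⟩⟩
  · obtain ⟨x, hx⟩ := (red_of_free (I := I) ι).surj (bF.repr (m, 0))
    have h0 : f x ∈ LinearMap.ker pκ := by
      rw [LinearMap.mem_ker, hf']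
      show bN.repr (bF.repr.symm (pι x)).2 = 0
      rw [show pι x = bF.repr (m, 0) from hx, bF.repr.symm_apply_apply, map_zero]
    rw [(red_of_free κ).ker, ← LinearMap.range_eq_top.2 hfs, LinearMap.range_eq_map,
      ← Submodule.map_smul''] at h0
    obtain ⟨x', hx', hxx⟩ := h0
    refine ⟨⟨x - x', by simp [hxx]⟩, ?_⟩
    show (bF.repr.symm (pι (x - x'))).1 = m
    rw [map_sub pι, LinearMap.mem_ker.1 ((red_of_free ι).ker.ge hx'), sub_zero,
      show pι x = bF.repr (m, 0) from hx, bF.repr.symm_apply_apply]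
  · have h1 : (x : ι →₀ R) ∈ I • (⊤ : Submodule R (ι →₀ R)) :=
      (red_of_free ι).ker.le (hpi x x.2 hx)
    refine (Submodule.mem_smul_top_iff I (LinearMap.ker f) x).2 ?_
    have h3 := Submodule.mem_map_of_mem (f := LinearMap.id - σ ∘ₗ f) h1
    rw [Submodule.map_smul''] at h3
    rw [LinearMap.sub_apply, LinearMap.comp_apply, LinearMap.mem_ker.1 x.2, map_zero, sub_zero] at h3
    refine Submodule.smul_mono le_rfl ?_ h3
    rintro _ ⟨z, -, rfl⟩
    simp [hσ]
  · show φ (pι (r • (x : ι →₀ R))) = 0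
    rw [LinearMap.mem_ker.1 ((red_of_free ι).ker.ge (Submodule.smul_mem_smul hr Submodule.mem_top)), map_zero]

/-- A finite projective module with free reduction is free. -/
theorem free_of_red (hI : I ≤ Ideal.jacobson (⊥ : Ideal R)) {X M : Type u} [AddCommGroup X] [Module R X]
    [AddCommGroup M] [Module R M] [Module (R ⧸ I) M] [IsScalarTower R (R ⧸ I) M]
    [Module.Finite R X] [Module.Projective R X] [Module.Free (R ⧸ I) M] {p : X →ₗ[R] M} (hp : Red I p) :
    Module.Free R X := by
  classical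
  haveI : Module.Finite R M := Module.Finite.of_surjective p hp.surj
  haveI : Module.Finite (R ⧸ I) M := Module.Finite.of_restrictScalars_finite R (R ⧸ I) M
  let b := Module.Free.chooseBasis (R ⧸ I) M
  let ι := Module.Free.ChooseBasisIndex (R ⧸ I) M
  let q : (ι →₀ R) →ₗ[R] M :=
    (b.repr.symm.toLinearMap.restrictScalars R) ∘ₗ Finsupp.mapRange.linearMap (Algebra.linearMap R (R ⧸ I))
  have hq : Red I q := ⟨b.repr.symm.surjective.comp (red_of_free ι).surj, by
    rw [← (red_of_free (I := I) ι).ker]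
    ext x
    exact b.repr.symm.map_eq_zero_iff⟩
  obtain ⟨f, hf⟩ := Module.projective_lifting_property q p hq.surj
  obtain ⟨g, hg⟩ := Module.projective_lifting_property p q hp.surj
  have hfs : Function.Surjective f := surjective_of_finite hI (ModuleCat.of R X) (ModuleCat.of R (ι →₀ R))
    (ModuleCat.ofHom f) (sup_smul_eq_top f q hq.ker fun y => by
      obtain ⟨x, hx⟩ := hp.surj (q y)
      exact ⟨x, (LinearMap.congr_fun hf x).trans hx⟩)
  have hgs : Function.Surjective g := surjective_of_finite hI (ModuleCat.of R (ι →₀ R)) (ModuleCat.of R X)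
    (ModuleCat.ofHom g) (sup_smul_eq_top g p hp.ker fun y => by
      obtain ⟨x, hx⟩ := hq.surj (p y)
      exact ⟨x, (LinearMap.congr_fun hg x).trans hx⟩)
  have hinj : Function.Injective (g ∘ₗ f) :=
    OrzechProperty.injective_of_surjective_endomorphism (g ∘ₗ f) (hgs.comp hfs)
  exact Module.Free.of_equiv (LinearEquiv.ofBijective f ⟨Function.Injective.of_comp (f := ⇑g) hinj, hfs⟩).symm

/-- Freeness of a term of a lift. -/
theorem free_of_extI_iso (hI : I ≤ Ideal.jacobson (⊥ : Ideal R))
    {P : CochainComplex (ModuleCat.{u} R) ℤ} {E : CochainComplex (ModuleCat.{u} (R ⧸ I)) ℤ}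
    (e : (extI I).obj P ≅ E) (i : ℤ) [Module.Finite R (P.X i)] [Module.Projective R (P.X i)]
    [Module.Free (R ⧸ I) (E.X i)] : Module.Free R (P.X i) := by
  let l := ((HomologicalComplex.eval _ _ i).mapIso e).toLinearEquiv
  letI : Module R (E.X i) := Module.compHom (E.X i) (Ideal.Quotient.mk I)
  haveI : IsScalarTower R (R ⧸ I) (E.X i) := IsScalarTower.of_algebraMap_smul fun _ _ => rfl
  let p : P.X i →ₗ[R] E.X i :=
    { toFun := fun x => l ((unitI I (P.X i)).hom x)
      map_add' := fun x y => (congrArg l (map_add (unitI I (P.X i)).hom x y)).trans (l.map_add _ _)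
      map_smul' := fun r x => by
        show l ((unitI I (P.X i)).hom (r • x)) = Ideal.Quotient.mk I r • l ((unitI I (P.X i)).hom x)
        rw [map_smul]
        exact l.map_smul (Ideal.Quotient.mk I r) _ }
  refine free_of_red hI (p := p) ⟨l.surjective.comp (red_unitI I (P.X i)).surj, ?_⟩
  rw [← (red_unitI I (P.X i)).ker]
  ext x
  exact l.map_eq_zero_iff

end Groth.Agent.LiftCxLib
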