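import Mathlib

/-!
# Lifting acyclic complexes modulo an ideal

For a class of projective modules on which surjectivity can be checked modulo `I`, a bounded above
acyclic complex of reductions lifts to a contractible complex.
-/

set_option autoImplicit false

universe u

open CategoryTheory CategoryTheory.Limits

namespace Groth.Agent.LiftCxLib

variable {R : Type u} [CommRing R] {I : Ideal R}

/-- `p` is the reduction modulo `I`. -/
structure Red (I : Ideal R) {X M : Type u} [AddCommGroup X] [Module R X] [AddCommGroup M] [Module R M]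
    (p : X →ₗ[R] M) : Prop where
  surj : Function.Surjective p
  ker : LinearMap.ker p = I • (⊤ : Submodule R X)

/-- The hypotheses on a class of modules. -/
structure Cls (I : Ideal R) (Pc : ObjectProperty (ModuleCat.{u} R)) : Prop where
  iso : Pc.IsClosedUnderIsomorphisms
  proj : ∀ X : ModuleCat.{u} R, Pc X → Module.Projective R X
  cancel : ∀ X Y : ModuleCat.{u} R, Pc X → Pc (ModuleCat.of R (X × Y)) → Pc Y
  surj : ∀ (X Y : ModuleCat.{u} R) (f : X ⟶ Y), Pc X → Pc Y →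
    LinearMap.range f.hom ⊔ I • (⊤ : Submodule R Y) = ⊤ → Function.Surjective f.hom

/-- A map compatible with surjective reductions is surjective modulo the ideal. -/
theorem sup_smul_eq_top {X Y M : Type u} [AddCommGroup X] [Module R X] [AddCommGroup Y] [Module R Y]
    [AddCommGroup M] [Module R M] (f : X →ₗ[R] Y) (q : Y →ₗ[R] M)
    (hq : LinearMap.ker q = I • (⊤ : Submodule R Y)) (h : ∀ y, ∃ x, q (f x) = q y) :
    LinearMap.range f ⊔ I • (⊤ : Submodule R Y) = ⊤ := by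
  refine eq_top_iff.2 fun y _ => ?_
  obtain ⟨x, hx⟩ := h y
  rw [← add_sub_cancel (f x) y]
  refine Submodule.add_mem _ (Submodule.mem_sup_left ⟨x, rfl⟩) (Submodule.mem_sup_right ?_)
  rw [← hq, LinearMap.mem_ker, map_sub, hx, sub_self]

variable {Pc : ObjectProperty (ModuleCat.{u} R)}

theorem Cls.of_equiv (hc : Cls I Pc) {X Y : Type u} [AddCommGroup X] [Module R X] [AddCommGroup Y]
    [Module R Y] (e : X ≃ₗ[R] Y) (h : Pc (ModuleCat.of R X)) : Pc (ModuleCat.of R Y) :=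
  haveI := hc.iso
  Pc.prop_of_iso e.toModuleIso h

/-- The class contains zero modules. -/
theorem Cls.zero (hc : Cls I Pc) {X : ModuleCat.{u} R} (hX : Pc X) {Z : ModuleCat.{u} R} (hZ : IsZero Z) :
    Pc Z := by
  haveI := ModuleCat.subsingleton_of_isZero hZ
  letI : Unique Z := uniqueOfSubsingleton 0
  refine hc.cancel X Z hX ?_
  exact hc.of_equiv (X := X) (LinearEquiv.prodUnique (R := R) (M := X) (M₂ := Z)).symm hX

/-- A surjection inside the class has its kernel in the class, and splits. -/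
theorem Cls.exists_section (hc : Cls I Pc) {X Y : Type u} [AddCommGroup X] [Module R X] [AddCommGroup Y]
    [Module R Y] (hX : Pc (ModuleCat.of R X)) (hY : Pc (ModuleCat.of R Y)) (f : X →ₗ[R] Y)
    (hf : Function.Surjective f) :
    (∃ σ : Y →ₗ[R] X, ∀ y, f (σ y) = y) ∧ Pc (ModuleCat.of R (LinearMap.ker f)) := by
  haveI : Module.Projective R Y := hc.proj _ hY
  obtain ⟨σ, hσ⟩ := Module.projective_lifting_property f LinearMap.id hf
  have hσ' : ∀ y, f (σ y) = y := LinearMap.congr_fun hσ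
  refine ⟨⟨σ, hσ'⟩, hc.cancel _ _ hY ?_⟩
  let r : X →ₗ[R] LinearMap.ker f :=
    (LinearMap.id - σ ∘ₗ f).codRestrict _ fun x => by simp [hσ']
  refine hc.of_equiv (LinearEquiv.ofLinear (f.prod r) (σ.coprod (LinearMap.ker f).subtype) ?_ ?_) hX
  · refine LinearMap.ext fun z => Prod.ext ?_ (Subtype.ext ?_)
    · simp [hσ']
    · simp [r, hσ']
  · exact LinearMap.ext fun x => by simp [r]

variable (Pc)

/-- A lift of the cycles in degree `i`. -/
def CycLift (I : Ideal R) (X : ℤ → ModuleCat.{u} R) (E : CochainComplex (ModuleCat.{u} R) ℤ)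
    (p : ∀ i, X i →ₗ[R] E.X i) (i : ℤ) (Y : Submodule R (X i)) : Prop :=
  Pc (ModuleCat.of R Y) ∧ (∀ y ∈ Y, (E.d i (i + 1)).hom (p i y) = 0) ∧
    (∀ e, (E.d i (i + 1)).hom e = 0 → ∃ y ∈ Y, p i y = e) ∧ ∀ y ∈ Y, p i y = 0 → y ∈ I • Y

variable {Pc}

theorem exists_step (hc : Cls I Pc) {X : ℤ → ModuleCat.{u} R} (hX : ∀ i, Pc (X i))
    {E : CochainComplex (ModuleCat.{u} R) ℤ} {p : ∀ i, X i →ₗ[R] E.X i} (hp : ∀ i, Red I (p i))
    (hE : ∀ i (e : E.X (i + 1)), (E.d (i + 1) (i + 1 + 1)).hom e = 0 → ∃ e', (E.d i (i + 1)).hom e' = e)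
    (i : ℤ) (Y' : Submodule R (X (i + 1))) (h : CycLift Pc I X E p (i + 1) Y') :
    ∃ Y : Submodule R (X i), CycLift Pc I X E p i Y ∧ ∃ f : X i →ₗ[R] X (i + 1),
      LinearMap.range f = Y' ∧ LinearMap.ker f = Y ∧ ∀ x, p (i + 1) (f x) = (E.d i (i + 1)).hom (p i x) := by
  obtain ⟨hPc, hcyc, hsur, hker⟩ := h
  let dE := (E.d i (i + 1)).hom
  have hd2 : ∀ e, (E.d (i + 1) (i + 1 + 1)).hom (dE e) = 0 := fun e =>
    congrArg (fun q => q.hom e) (E.d_comp_d i (i + 1) (i + 1 + 1))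
  let q : Y' →ₗ[R] LinearMap.ker (E.d (i + 1) (i + 1 + 1)).hom :=
    (p (i + 1) ∘ₗ Y'.subtype).codRestrict _ fun y => hcyc _ y.2
  have hqs : Function.Surjective q := fun ⟨e, he⟩ => by
    obtain ⟨y, hy, rfl⟩ := hsur e he
    exact ⟨⟨y, hy⟩, rfl⟩
  have hqk : LinearMap.ker q = I • (⊤ : Submodule R Y') := le_antisymm
    (fun y hy => (Submodule.mem_smul_top_iff I Y' y).2 (hker _ y.2 (congrArg Subtype.val hy)))
    (Submodule.smul_le.2 fun r hr y _ => by
      refine Subtype.ext ?_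
      show p (i + 1) (r • (y : X (i + 1))) = 0
      rw [← LinearMap.mem_ker, (hp _).ker]
      exact Submodule.smul_mem_smul hr Submodule.mem_top)
  haveI : Module.Projective R (X i) := hc.proj _ (hX i)
  obtain ⟨f₀, hf₀⟩ := Module.projective_lifting_property q
    ((dE ∘ₗ p i).codRestrict _ fun x => hd2 _) hqs
  have hf₀' : ∀ x, p (i + 1) (f₀ x : X (i + 1)) = dE (p i x) := fun x =>
    congrArg Subtype.val (LinearMap.congr_fun hf₀ x)
  have hsurj : Function.Surjective f₀ := by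
    refine hc.surj (X i) (ModuleCat.of R Y') (ModuleCat.ofHom f₀) (hX i) hPc
      (sup_smul_eq_top f₀ q hqk fun y => ?_)
    obtain ⟨e', he'⟩ := hE i _ (hcyc _ y.2)
    obtain ⟨x, rfl⟩ := (hp i).surj e'
    exact ⟨x, Subtype.ext ((hf₀' x).trans he')⟩
  obtain ⟨⟨σ, hσ⟩, hkerPc⟩ := hc.exists_section (X := X i) (Y := Y') (hX i) hPc f₀ hsurj
  refine ⟨LinearMap.ker f₀, ⟨hkerPc, fun y hy => ?_, fun e he => ?_, fun y hy hpy => ?_⟩,
    Y'.subtype ∘ₗ f₀, ?_, LinearMap.ker_comp_of_ker_eq_bot f₀ Y'.ker_subtype, hf₀'⟩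
  · show dE (p i y) = 0
    rw [← hf₀', LinearMap.mem_ker.1 hy]
    exact map_zero _
  · obtain ⟨x, rfl⟩ := (hp i).surj e
    have h0 : f₀ x ∈ LinearMap.ker q := Subtype.ext ((hf₀' x).trans he)
    rw [hqk, ← LinearMap.range_eq_top.2 hsurj, LinearMap.range_eq_map, ← Submodule.map_smul''] at h0
    obtain ⟨x', hx', hxx'⟩ := h0
    refine ⟨x - x', by simp [hxx'], ?_⟩
    rw [map_sub, LinearMap.mem_ker.1 ((hp i).ker.ge hx'), sub_zero]
  · have h1 : y ∈ I • (⊤ : Submodule R (X i)) := (hp i).ker.le hpy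
    have h2 := Submodule.mem_map_of_mem (f := LinearMap.id - σ ∘ₗ f₀) h1
    rw [Submodule.map_smul''] at h2
    rw [LinearMap.sub_apply, LinearMap.comp_apply, LinearMap.mem_ker.1 hy, map_zero, sub_zero] at h2
    refine Submodule.smul_mono le_rfl ?_ h2
    rintro _ ⟨x, -, rfl⟩
    simp [hσ]
  · rw [LinearMap.range_comp, LinearMap.range_eq_top.2 hsurj, Submodule.map_top, Submodule.range_subtype]

/-- Lifts of the cycles in all degrees. -/
theorem exists_cycles (hc : Cls I Pc) {X : ℤ → ModuleCat.{u} R} (hX : ∀ i, Pc (X i))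
    {E : CochainComplex (ModuleCat.{u} R) ℤ} {p : ∀ i, X i →ₗ[R] E.X i} (hp : ∀ i, Red I (p i))
    (hE : ∀ i (e : E.X (i + 1)), (E.d (i + 1) (i + 1 + 1)).hom e = 0 → ∃ e', (E.d i (i + 1)).hom e' = e)
    (b : ℤ) (hb : ∀ i, b < i → IsZero (X i)) :
    ∃ (Y : ∀ i, Submodule R (X i)) (f : ∀ i, X i →ₗ[R] X (i + 1)),
      (∀ i, CycLift Pc I X E p i (Y i)) ∧ (∀ i, LinearMap.range (f i) = Y (i + 1)) ∧
      (∀ i, LinearMap.ker (f i) = Y i) ∧ ∀ i x, p (i + 1) (f i x) = (E.d i (i + 1)).hom (p i x) := by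
  classical
  have htop : ∀ i, b < i → CycLift Pc I X E p i ⊤ := fun i hi => by
    haveI := ModuleCat.subsingleton_of_isZero (hb i hi)
    haveI := ModuleCat.subsingleton_of_isZero (hb (i + 1) (by omega))
    haveI : Subsingleton (E.X i) := (hp i).surj.subsingleton
    refine ⟨hc.of_equiv (X := X i) Submodule.topEquiv.symm (hX i), fun y _ => ?_, fun e _ => ?_, fun y _ _ => ?_⟩
    · rw [Subsingleton.elim (p i y) 0, map_zero]
    · exact ⟨0, Submodule.mem_top, Subsingleton.elim _ _⟩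
    · rw [Subsingleton.elim y 0]
      exact zero_mem _
  choose G hG hGf using exists_step hc hX hp hE
  let go : ∀ (n : ℕ) (i : ℤ), b < i + n → {Y : Submodule R (X i) // CycLift Pc I X E p i Y} := fun n =>
    Nat.rec (motive := fun n => ∀ i : ℤ, b < i + n → {Y : Submodule R (X i) // CycLift Pc I X E p i Y})
      (fun i hi => ⟨⊤, htop i (by simpa using hi)⟩)
      (fun n ih i hi => ⟨G i (ih (i + 1) (by push_cast at hi; omega)).1
        (ih (i + 1) (by push_cast at hi; omega)).2, hG _ _ _⟩) n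
  let Y := fun i => (go (b + 1 - i).toNat i (by omega)).1
  have hY : ∀ i, CycLift Pc I X E p i (Y i) := fun i => (go _ i _).2
  have hrel : ∀ i, ∃ f : X i →ₗ[R] X (i + 1), LinearMap.range f = Y (i + 1) ∧ LinearMap.ker f = Y i ∧
      ∀ x, p (i + 1) (f x) = (E.d i (i + 1)).hom (p i x) := fun i => by
    by_cases hi : i ≤ b
    · have key : ∀ (n m : ℕ) (h₁ : b < i + n) (h₂ : b < i + 1 + m), n = m + 1 →
          ∃ f : X i →ₗ[R] X (i + 1), LinearMap.range f = (go m (i + 1) h₂).1 ∧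
            LinearMap.ker f = (go n i h₁).1 ∧ ∀ x, p (i + 1) (f x) = (E.d i (i + 1)).hom (p i x) := by
        rintro _ m h₁ h₂ rfl
        exact hGf i _ _
      exact key _ _ _ _ (by omega)
    · haveI := ModuleCat.subsingleton_of_isZero (hb i (by omega))
      haveI := ModuleCat.subsingleton_of_isZero (hb (i + 1) (by omega))
      haveI : Subsingleton (E.X (i + 1)) := (hp (i + 1)).surj.subsingleton
      exact ⟨0, SetLike.ext fun x => by simp [Subsingleton.elim x 0],
        SetLike.ext fun x => by simp [Subsingleton.elim x 0], fun x => Subsingleton.elim _ _⟩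
  choose f hf₁ hf₂ hf₃ using hrel
  exact ⟨Y, f, hY, hf₁, hf₂, hf₃⟩

/-- An acyclic bounded above complex of reductions lifts to a contractible complex. -/
theorem exists_lift_acyclic (hc : Cls I Pc) {X : ℤ → ModuleCat.{u} R} (hX : ∀ i, Pc (X i))
    {E : CochainComplex (ModuleCat.{u} R) ℤ} {p : ∀ i, X i →ₗ[R] E.X i} (hp : ∀ i, Red I (p i))
    (hE : ∀ i (e : E.X (i + 1)), (E.d (i + 1) (i + 1 + 1)).hom e = 0 → ∃ e', (E.d i (i + 1)).hom e' = e)
    (b : ℤ) (hb : ∀ i, b < i → IsZero (X i)) :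
    ∃ (d : ∀ i, X i →ₗ[R] X (i + 1)) (s : ∀ i, X (i + 1) →ₗ[R] X i),
      (∀ i x, d (i + 1) (d i x) = 0) ∧ (∀ i x, d i (s i x) + s (i + 1) (d (i + 1) x) = x) ∧
      ∀ i x, p (i + 1) (d i x) = (E.d i (i + 1)).hom (p i x) := by
  obtain ⟨Y, f, hY, hr, hk, hpf⟩ := exists_cycles hc hX hp hE b hb
  have hmem : ∀ i x, f i x ∈ Y (i + 1) := fun i x => hr i ▸ LinearMap.mem_range_self _ _
  let f' : ∀ i, X i →ₗ[R] Y (i + 1) := fun i => (f i).codRestrict _ (hmem i)
  have hf' : ∀ i, Function.Surjective (f' i) := fun i ⟨y, hy⟩ => by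
    rw [← hr i] at hy
    obtain ⟨x, rfl⟩ := hy
    exact ⟨x, rfl⟩
  choose σ hσ using fun i => (hc.exists_section (X := X i) (Y := Y (i + 1)) (hX i) (hY (i + 1)).1 (f' i) (hf' i)).1
  have hσ' : ∀ i y, f i (σ i y : X i) = (y : X (i + 1)) := fun i y => congrArg Subtype.val (hσ i y)
  let r : ∀ i, X i →ₗ[R] Y i := fun i => (LinearMap.id - σ i ∘ₗ f' i).codRestrict (Y i) fun x => by
    rw [← hk i, LinearMap.mem_ker, LinearMap.sub_apply, map_sub, LinearMap.id_apply, LinearMap.comp_apply, hσ']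
    exact sub_self (f i x)
  refine ⟨f, fun i => σ i ∘ₗ r (i + 1), fun i x => ?_, fun i x => ?_, hpf⟩
  · exact LinearMap.mem_ker.1 ((hk (i + 1)).ge (hmem i x))
  · have h1 : r (i + 1 + 1) (f (i + 1) x) = f' (i + 1) x := by
      refine Subtype.ext ?_
      show f (i + 1) x - σ (i + 1 + 1) (f' (i + 1 + 1) (f (i + 1) x)) = f (i + 1) x
      rw [show f' (i + 1 + 1) (f (i + 1) x) = 0 from
        Subtype.ext (LinearMap.mem_ker.1 ((hk (i + 1 + 1)).ge (hmem (i + 1) x))), map_zero, sub_zero]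
    simp only [LinearMap.comp_apply, h1, hσ']
    exact sub_add_cancel x (σ (i + 1) (f' (i + 1) x))

end Groth.Agent.LiftCxLib
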