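import Groth.Agent.LiftCxLib.Lift
import Groth.Agent.DRingLib.LBaseChange
import Groth.Agent.DRingLib.Amplitude
import Groth.Prelude.Def_DRing2

/-!
# Lifting representatives in the derived category
-/

set_option autoImplicit false
set_option linter.style.haveILetI false

universe u

open CategoryTheory CategoryTheory.Limits
open scoped TensorProduct

attribute [local instance] HasDerivedCategory.standard

namespace Groth.Agent.LiftCxLib

variable {R : Type u} [CommRing R] {I : Ideal R} {Pc : ObjectProperty (ModuleCat.{u} R)}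

/-- A reduced representative lifts to a representative with terms in the class. -/
theorem exists_representative [DRing.HasLBaseChange (Ideal.Quotient.mk I)] (hc : Cls I Pc)
    (hprod : ∀ X Y : ModuleCat.{u} R, Pc X → Pc Y → Pc (ModuleCat.of R (X × Y)))
    (K : Dual.D R) (hK : ∃ (Q : DRing.Cx R) (c : ℤ), DRing.VanishesAbove Q c ∧ (∀ i : ℤ, Pc (Q.X i)) ∧
      Nonempty (DRing.toD Q ≅ K))
    (E : DRing.Cx (R ⧸ I)) (b : ℤ) (hEb : DRing.VanishesAbove E b)
    (hEt : ∀ i : ℤ, ∃ X : ModuleCat.{u} R, Pc X ∧ Nonempty ((R ⧸ I) ⊗[R] X ≃ₗ[R ⧸ I] E.X i))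
    (hE : Nonempty (DRing.toD E ≅ (DRing.LBaseChange (Ideal.Quotient.mk I)).obj K)) :
    ∃ (P : DRing.Cx R) (b' : ℤ), DRing.VanishesAbove P b' ∧ (∀ i : ℤ, Pc (P.X i)) ∧
      Nonempty (DRing.toD P ≅ K) ∧ Nonempty ((extI I).obj P ≅ E) := by
  obtain ⟨Q, c, hQb, hQ, ⟨eK⟩⟩ := hK
  obtain ⟨X, p, hX, hp, hz⟩ := exists_reds hc E b hEb hEt
  haveI hQp : ∀ i, Module.Projective R (Q.X i) := fun i => hc.proj _ (hQ i)
  have hQf : DRing.IsKFlat R Q := KFlatLib.isKFlat_of_bounded_flat Q c hQb fun i => inferInstance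
  let F := ModuleCat.extendScalars.{u, u, u} (Ideal.Quotient.mk I)
  haveI hFp : ∀ i, Module.Projective (R ⧸ I) (((extI I).obj Q).X i) := fun i => by
    haveI := hQp i
    exact inferInstanceAs (Module.Projective (R ⧸ I) ((R ⧸ I) ⊗[R] Q.X i))
  haveI := DRingLib.isKProjective_of_projective ((extI I).obj Q) c
    (fun i hi => F.map_isZero (hQb i hi)) hFp
  obtain ⟨eE⟩ := hE
  obtain ⟨α, hα⟩ := DRingLib.exists_qis_of_iso ((extI I).obj Q) E
    ((DRingLib.lBaseChangeObjIso (Ideal.Quotient.mk I) Q hQf).symm ≪≫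
      (DRing.LBaseChange (Ideal.Quotient.mk I)).mapIso eK ≪≫ eE.symm)
  let Φ := ModuleCat.restrictScalars.{u} (Ideal.Quotient.mk I)
  haveI : QuasiIso ((resI I).map α) :=
    inferInstanceAs (QuasiIso ((Φ.mapHomologicalComplex (ComplexShape.up ℤ)).map α))
  let g : Q ⟶ (resI I).obj ((extI I).obj Q) :=
    { f := fun i => unitI I (Q.X i)
      comm' := fun i j _ =>
        ((ModuleCat.extendRestrictScalarsAdj.{u, u, u} (Ideal.Quotient.mk I)).unit.naturality (Q.d i j)).symm }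
  obtain ⟨P, g', hPb, hPc, ⟨eP⟩, hred⟩ := exists_lift hc hprod Q c hQb hQ g (fun i => red_unitI I (Q.X i))
    ((resI I).map α) p hX hp b hz
  exact ⟨P, max b c, hPb, hPc, ⟨eP ≪≫ eK⟩, nonempty_extI_iso I g' hred⟩

end Groth.Agent.LiftCxLib
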