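import Groth.Agent.LiftCxLib.Core

/-!
# Reductions of complexes modulo an ideal
-/

set_option autoImplicit false
set_option linter.style.haveILetI false

universe u

open CategoryTheory CategoryTheory.Limits
open scoped TensorProduct

namespace Groth.Agent.LiftCxLib

variable {R : Type u} [CommRing R] (I : Ideal R)

/-- Restriction of complexes along the quotient map. -/
noncomputable abbrev resI : CochainComplex (ModuleCat.{u} (R ⧸ I)) ℤ ⥤ CochainComplex (ModuleCat.{u} R) ℤ :=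
  (ModuleCat.restrictScalars.{u} (Ideal.Quotient.mk I)).mapHomologicalComplex (ComplexShape.up ℤ)

/-- Termwise reduction of complexes. -/
noncomputable abbrev extI : CochainComplex (ModuleCat.{u} R) ℤ ⥤ CochainComplex (ModuleCat.{u} (R ⧸ I)) ℤ :=
  (ModuleCat.extendScalars.{u, u, u} (Ideal.Quotient.mk I)).mapHomologicalComplex (ComplexShape.up ℤ)

theorem red_one_tmul (M : Type u) [AddCommGroup M] [Module R M] :
    Function.Surjective (TensorProduct.mk R (R ⧸ I) M 1) ∧
      LinearMap.ker (TensorProduct.mk R (R ⧸ I) M 1) = I • (⊤ : Submodule R M) := by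
  refine ⟨TensorProduct.mk_surjective R M (R ⧸ I) Ideal.Quotient.mk_surjective, ?_⟩
  ext m
  rw [LinearMap.mem_ker, TensorProduct.mk_apply, ← Submodule.Quotient.mk_eq_zero,
    ← (TensorProduct.quotTensorEquivQuotSMul M I).map_eq_zero_iff, ← map_one (Ideal.Quotient.mk I),
    TensorProduct.quotTensorEquivQuotSMul_mk_tmul, one_smul]

/-- The unit `M → (M / IM)`. -/
noncomputable def unitI (M : ModuleCat.{u} R) : M ⟶ (ModuleCat.restrictScalars.{u} (Ideal.Quotient.mk I)).obj
    ((ModuleCat.extendScalars.{u, u, u} (Ideal.Quotient.mk I)).obj M) :=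
  (ModuleCat.extendRestrictScalarsAdj.{u, u, u} (Ideal.Quotient.mk I)).unit.app M

theorem red_unitI (M : ModuleCat.{u} R) : Red I (unitI I M).hom := by
  obtain ⟨h₁, h₂⟩ := red_one_tmul I M
  exact ⟨fun m => h₁ m, SetLike.ext fun x => SetLike.ext_iff.1 h₂ x⟩

/-- A reduction from a presentation as a base change. -/
theorem exists_red_of_tensor {X : ModuleCat.{u} R} {M : ModuleCat.{u} (R ⧸ I)}
    (e : (R ⧸ I) ⊗[R] X ≃ₗ[R ⧸ I] M) :
    ∃ p : X →ₗ[R] (ModuleCat.restrictScalars.{u} (Ideal.Quotient.mk I)).obj M, Red I p := by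
  let p : X →ₗ[R] (ModuleCat.restrictScalars.{u} (Ideal.Quotient.mk I)).obj M :=
    { toFun := fun x => e ((1 : R ⧸ I) ⊗ₜ x)
      map_add' := fun x y => by rw [TensorProduct.tmul_add, map_add]; rfl
      map_smul' := fun r x => by
        show e ((1 : R ⧸ I) ⊗ₜ (r • x)) = (Ideal.Quotient.mk I r) • e ((1 : R ⧸ I) ⊗ₜ x)
        rw [TensorProduct.tmul_smul, ← map_smul, ← algebraMap_smul (R ⧸ I) r]
        rfl }
  refine ⟨p, fun m => ?_, ?_⟩
  · obtain ⟨x, hx⟩ := (red_one_tmul I X).1 (e.symm m)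
    exact ⟨x, by show e ((1 : R ⧸ I) ⊗ₜ x) = m; rw [← TensorProduct.mk_apply, hx]; exact e.apply_symm_apply m⟩
  · rw [← (red_one_tmul I X).2]
    ext x
    exact e.map_eq_zero_iff

/-- A termwise reduction identifies the reduced complex. -/
theorem nonempty_extI_iso {P : CochainComplex (ModuleCat.{u} R) ℤ} {E : CochainComplex (ModuleCat.{u} (R ⧸ I)) ℤ}
    (g : P ⟶ (resI I).obj E) (hg : ∀ i, Red I (g.f i).hom) : Nonempty ((extI I).obj P ≅ E) := by
  let adj := ModuleCat.extendRestrictScalarsAdj.{u, u, u} (Ideal.Quotient.mk I)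
  let φ : ∀ i, ((extI I).obj P).X i ⟶ E.X i := fun i => (adj.homEquiv (P.X i) (E.X i)).symm (g.f i)
  have hφ : ∀ i (x : P.X i), (φ i).hom ((unitI I (P.X i)).hom x) = (g.f i).hom x := fun i x => by
    have h := (adj.homEquiv_unit (P.X i) (E.X i) (φ i)).symm.trans ((adj.homEquiv (P.X i) (E.X i)).apply_symm_apply (g.f i))
    exact congrArg (fun q => q.hom x) h
  have hbij : ∀ i, Function.Bijective (φ i).hom := fun i => by
    refine ⟨(injective_iff_map_eq_zero _).2 fun z hz => ?_, fun e => ?_⟩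
    · obtain ⟨x, rfl⟩ := (red_unitI I (P.X i)).surj z
      have h : x ∈ LinearMap.ker (g.f i).hom := (hφ i x).symm.trans hz
      rw [(hg i).ker, ← (red_unitI I (P.X i)).ker] at h
      exact h
    · obtain ⟨x, rfl⟩ := (hg i).surj e
      exact ⟨_, hφ i x⟩
  haveI : ∀ i, IsIso (φ i) := fun i => (ConcreteCategory.isIso_iff_bijective _).2 (hbij i)
  refine ⟨HomologicalComplex.Hom.isoOfComponents (fun i => asIso (φ i)) fun i j _ => ?_⟩
  exact ((adj.homEquiv_naturality_right_symm (g.f i) (E.d i j)).symm.trans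
    ((congrArg (adj.homEquiv (P.X i) (E.X j)).symm (g.comm i j)).trans
      (adj.homEquiv_naturality_left_symm (P.d i j) (g.f j))))

variable {I} {Pc : ObjectProperty (ModuleCat.{u} R)}

/-- Reductions of all terms, zero where the complex vanishes. -/
theorem exists_reds (hc : Cls I Pc) (E : CochainComplex (ModuleCat.{u} (R ⧸ I)) ℤ) (b : ℤ)
    (hb : ∀ i, b < i → IsZero (E.X i))
    (hEt : ∀ i : ℤ, ∃ X : ModuleCat.{u} R, Pc X ∧ Nonempty ((R ⧸ I) ⊗[R] X ≃ₗ[R ⧸ I] E.X i)) :
    ∃ (X : ℤ → ModuleCat.{u} R) (p : ∀ i, X i →ₗ[R] ((resI I).obj E).X i),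
      (∀ i, Pc (X i)) ∧ (∀ i, Red I (p i)) ∧ ∀ i, b < i → IsZero (X i) := by
  have : ∀ i, ∃ (X : ModuleCat.{u} R) (p : X →ₗ[R] ((resI I).obj E).X i),
      Pc X ∧ Red I p ∧ (b < i → IsZero X) := fun i => by
    obtain ⟨X, hX, ⟨e⟩⟩ := hEt i
    by_cases hi : b < i
    · let Z := ModuleCat.of R PUnit.{u + 1}
      have hZ : IsZero Z := ModuleCat.isZero_of_subsingleton Z
      haveI : Subsingleton (((resI I).obj E).X i) := ModuleCat.subsingleton_of_isZero
        ((ModuleCat.restrictScalars.{u} (Ideal.Quotient.mk I)).map_isZero (hb i hi))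
      exact ⟨Z, 0, hc.zero hX hZ, ⟨fun m => ⟨0, Subsingleton.elim _ _⟩,
        SetLike.ext fun x => by simp [Subsingleton.elim x 0]⟩, fun _ => hZ⟩
    · obtain ⟨p, hp⟩ := exists_red_of_tensor I e
      exact ⟨X, p, hX, hp, fun h => absurd h hi⟩
  choose X p hX hp hz using this
  exact ⟨X, p, hX, hp, hz⟩

/-- Exactness of a restricted complex on elements. -/
theorem exact_elements {A : CochainComplex (ModuleCat.{u} R) ℤ} (hA : A.Acyclic) (i : ℤ) (e : A.X (i + 1))
    (he : (A.d (i + 1) (i + 1 + 1)).hom e = 0) : ∃ e', (A.d i (i + 1)).hom e' = e :=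
  (ShortComplex.moduleCat_exact_iff _).1
    ((A.exactAt_iff' i (i + 1) (i + 1 + 1) (by simp) (by simp)).1 (hA (i + 1))) e he

theorem acyclic_resI {E : CochainComplex (ModuleCat.{u} (R ⧸ I)) ℤ} (hE : E.Acyclic) :
    ((resI I).obj E).Acyclic := fun i => by
  have h := (hE i).map (ModuleCat.restrictScalars.{u} (Ideal.Quotient.mk I))
  exact h

/-- The complex of linear maps. -/
noncomputable abbrev cxOf (X : ℤ → ModuleCat.{u} R) (d : ∀ i, X i →ₗ[R] X (i + 1))
    (hd : ∀ i x, d (i + 1) (d i x) = 0) : CochainComplex (ModuleCat.{u} R) ℤ :=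
  CochainComplex.of X (fun i => ModuleCat.ofHom (d i)) (fun i => ModuleCat.hom_ext (LinearMap.ext (hd i)))

theorem cxOf_d (X : ℤ → ModuleCat.{u} R) (d : ∀ i, X i →ₗ[R] X (i + 1))
    (hd : ∀ i x, d (i + 1) (d i x) = 0) (i : ℤ) : ((cxOf X d hd).d i (i + 1)).hom = d i :=
  congrArg ModuleCat.Hom.hom (CochainComplex.of_d X (fun i => ModuleCat.ofHom (d i)) i)

/-- A complex with a contraction is acyclic. -/
theorem acyclic_of_contraction (X : ℤ → ModuleCat.{u} R) (d : ∀ i, X i →ₗ[R] X (i + 1))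
    (hd : ∀ i x, d (i + 1) (d i x) = 0) (s : ∀ i, X (i + 1) →ₗ[R] X i)
    (hs : ∀ i x, d i (s i x) + s (i + 1) (d (i + 1) x) = x) :
    (cxOf X d hd).Acyclic := fun j => by
  obtain ⟨i, rfl⟩ : ∃ i, j = i + 1 := ⟨j - 1, by omega⟩
  rw [HomologicalComplex.exactAt_iff' _ i (i + 1) (i + 1 + 1) (by simp) (by simp),
    ShortComplex.moduleCat_exact_iff]
  intro x hx
  change ((cxOf X d hd).d (i + 1) (i + 1 + 1)).hom x = 0 at hx
  rw [cxOf_d] at hx
  refine ⟨s i x, ?_⟩
  show ((cxOf X d hd).d i (i + 1)).hom (s i x) = x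
  rw [cxOf_d]
  have h := hs i x
  rw [show d (i + 1) x = 0 from hx, map_zero, add_zero] at h
  exact h

end Groth.Agent.LiftCxLib
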