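import Groth.Agent.DCompLib.LTQuot
import Groth.Agent.LiftCxLib.Reduction
import Mathlib.Algebra.Homology.HomologicalComplexAbelian

/-!
# Upper bounds of cohomology from a reduction modulo a nilpotent ideal
-/

set_option autoImplicit false
set_option linter.style.haveILetI false

universe u

open CategoryTheory CategoryTheory.Limits CategoryTheory.MonoidalCategory
open KFlatLib (tensorN)
open Groth.Agent.DRingLib

attribute [local instance] HasDerivedCategory.standard

namespace Groth.Agent.LiftCxLib.Killed

variable {R : Type u} [CommRing R] (I : Ideal R)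

/-- The module over the quotient. -/
noncomputable def overQuot (N : ModuleCat.{u} R) (hN : ∀ r ∈ I, ∀ x : N, r • x = 0) : ModuleCat.{u} (R ⧸ I) :=
  letI : Module (R ⧸ I) N := Module.IsTorsionBySet.module (R := R) (I := I) fun x r => hN r.1 r.2 x
  ModuleCat.of (R ⧸ I) N

theorem nonempty_res_overQuot (N : ModuleCat.{u} R) (hN : ∀ r ∈ I, ∀ x : N, r • x = 0) :
    Nonempty ((ModuleCat.restrictScalars (Ideal.Quotient.mk I)).obj (overQuot I N hN) ≅ N) := by
  let f : ((ModuleCat.restrictScalars (Ideal.Quotient.mk I)).obj (overQuot I N hN) : ModuleCat.{u} R) →ₗ[R] N :=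
    { toFun := fun x => x, map_add' := fun _ _ => rfl, map_smul' := fun _ _ => rfl }
  exact ⟨(LinearEquiv.ofBijective f ⟨fun _ _ h => h, fun x => ⟨x, rfl⟩⟩).toModuleIso⟩

theorem isZero_homology_killed {c : ℤ} (P : CochainComplex (ModuleCat.{u} R) ℤ) (hP : DRing.IsKFlat R P)
    (hI : ∀ i : ℤ, c < i → IsZero (((LiftCxLib.extI I).obj P).homology i)) (N : ModuleCat.{u} R)
    (hN : ∀ r ∈ I, ∀ x : N, r • x = 0) (i : ℤ) (hi : c < i) : IsZero ((tensorN P N).homology i) := by
  let φ := Ideal.Quotient.mk I
  let N' := overQuot I N hN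
  obtain ⟨eN⟩ := nonempty_res_overQuot I N hN
  haveI : DRing.HasLTensor R (ModuleCat.of R (R ⧸ I)) :=
    hasLeftDerived_of_kFlat (DCompLib.preservesKFlatQis_tensorRight _)
  let Pb := ((ModuleCat.extendScalars.{u, u, u} φ).mapHomologicalComplex (ComplexShape.up ℤ)).obj P
  have hPb : DRing.IsKFlat (R ⧸ I) Pb := KFlatLib.isKFlat_extend φ hP
  obtain ⟨P', hb, hf, ⟨e'⟩⟩ := exists_free_rep (DerivedCategory.Q.obj Pb) c fun j hj =>
    (hI j hj).of_iso
      ((DerivedCategory.homologyFunctorFactors (ModuleCat.{u} (R ⧸ I)) j).app Pb)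
  have hΦ := DCompLib.preservesKFlatQis_tensorRight (A := R ⧸ I) N'
  haveI : DRing.HasLTensor (R ⧸ I) N' := hasLeftDerived_of_kFlat hΦ
  let eQ : DerivedCategory.Q.obj (tensorN Pb N') ≅ DerivedCategory.Q.obj (tensorN P' N') :=
    (leftDerivedObjIso hΦ Pb hPb).symm ≪≫ (DRing.LTensor (R ⧸ I) N').mapIso e'.symm ≪≫
      leftDerivedObjIso hΦ P' (isKFlat_of_free P' c hb hf)
  have h1 : IsZero ((tensorN Pb N').homology i) :=
    ((isZero_Hn_Q _ i ((tensorRight _).map_isZero (hb i hi))).of_iso
      ((DerivedCategory.homologyFunctor _ i).mapIso eQ)).of_iso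
        ((DerivedCategory.homologyFunctorFactors (ModuleCat.{u} (R ⧸ I)) i).app (tensorN Pb N')).symm
  let θ : tensorRight N ≅ ModuleCat.extendScalars.{u, u, u} φ ⋙ tensorRight N' ⋙ ModuleCat.restrictScalars φ :=
    ((tensoringRight (ModuleCat.{u} R)).mapIso eN.symm) ≪≫
      (BraidedCategory.tensorLeftIsoTensorRight ((ModuleCat.restrictScalars φ).obj N')).symm ≪≫
      NatIso.ofComponents (fun M => asIso (KFlatLib.projHom φ N' M) ≪≫
          (ModuleCat.restrictScalars φ).mapIso
            ((BraidedCategory.tensorLeftIsoTensorRight N').app ((ModuleCat.extendScalars.{u, u, u} φ).obj M)))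
        fun {M M'} g => by
          refine ((Category.assoc _ _ _).symm.trans (congrArg (· ≫ _)
            (KFlatLib.projHom_natural_right φ N' g))).trans ?_
          refine ((Category.assoc _ _ _).trans ?_).trans (Category.assoc _ _ _).symm
          refine congrArg (KFlatLib.projHom φ N' M ≫ ·) ?_
          exact (((ModuleCat.restrictScalars φ).map_comp _ _).symm.trans (congrArg _
            ((BraidedCategory.tensorLeftIsoTensorRight N').hom.naturality _))).trans
              ((ModuleCat.restrictScalars φ).map_comp _ _)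
  let eC : tensorN P N ≅
      ((ModuleCat.restrictScalars φ).mapHomologicalComplex (ComplexShape.up ℤ)).obj (tensorN Pb N') :=
    HomologicalComplex.Hom.isoOfComponents (fun n => θ.app (P.X n))
      fun p q _ => (θ.hom.naturality (P.d p q)).symm
  exact (((ModuleCat.restrictScalars φ).map_isZero h1).of_iso
    (((tensorN Pb N').sc i).mapHomologyIso (ModuleCat.restrictScalars φ))).of_iso
      ((HomologicalComplex.homologyFunctor _ _ i).mapIso eC)

/-- The sequence of complexes. -/
theorem isZero_homology_ext (P : CochainComplex (ModuleCat.{u} R) ℤ) (hflat : ∀ n, Module.Flat R (P.X n))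
    {S : ShortComplex (ModuleCat.{u} R)} (hS : S.ShortExact) (i : ℤ)
    (h₁ : IsZero ((tensorN P S.X₁).homology i)) (h₃ : IsZero ((tensorN P S.X₃).homology i)) :
    IsZero ((tensorN P S.X₂).homology i) := by
  let t : ∀ {M M' : ModuleCat.{u} R}, (M ⟶ M') → (tensorN P M ⟶ tensorN P M') := fun {M M'} f =>
    (NatTrans.mapHomologicalComplex ((tensoringRight (ModuleCat.{u} R)).map f) (ComplexShape.up ℤ)).app P
  let T : ShortComplex (CochainComplex (ModuleCat.{u} R) ℤ) := ShortComplex.mk (t S.f) (t S.g)
    (HomologicalComplex.Hom.ext (funext fun n => by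
      show P.X n ◁ S.f ≫ P.X n ◁ S.g = 0
      rw [← MonoidalCategory.whiskerLeft_comp, S.zero]
      exact (tensorLeft (P.X n)).map_zero _ _))
  have hT : T.ShortExact := HomologicalComplex.shortExact_of_degreewise_shortExact T fun n => by
    have he := (ShortComplex.ShortExact.moduleCat_exact_iff_function_exact S).1 hS.exact
    have hsur := (ModuleCat.epi_iff_surjective _).1 hS.epi_g
    have hinj := (ModuleCat.mono_iff_injective _).1 hS.mono_f
    exact
      { exact := (ShortComplex.ShortExact.moduleCat_exact_iff_function_exact _).2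
          (lTensor_exact (P.X n) he hsur)
        mono_f := (ModuleCat.mono_iff_injective _).2
          (haveI := hflat n; Module.Flat.lTensor_preserves_injective_linearMap (M := P.X n) S.f.hom hinj)
        epi_g := (ModuleCat.epi_iff_surjective _).2 (LinearMap.lTensor_surjective (P.X n) hsur) }
  exact (hT.homology_exact₂ i).isZero_X₂ (h₁.eq_of_src _ _) (h₃.eq_of_tgt _ _)

theorem isZero_homology_pow {c : ℤ} (P : CochainComplex (ModuleCat.{u} R) ℤ) (hP : DRing.IsKFlat R P)
    (hflat : ∀ n, Module.Flat R (P.X n))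
    (hI : ∀ i : ℤ, c < i → IsZero (((LiftCxLib.extI I).obj P).homology i)) :
    ∀ (n : ℕ) (N : ModuleCat.{u} R), (∀ r ∈ I ^ n, ∀ x : N, r • x = 0) → ∀ i : ℤ, c < i →
      IsZero ((tensorN P N).homology i) := by
  intro n
  induction n with
  | zero =>
    intro N hN
    exact isZero_homology_killed I P hP hI N fun r _ x => hN r (by simp) x
  | succ n ih =>
    intro N hN i hi
    let L : Submodule R N := I • ⊤
    let S : ShortComplex (ModuleCat.{u} R) := ShortComplex.mk (ModuleCat.ofHom L.subtype) (ModuleCat.ofHom L.mkQ)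
      (ModuleCat.hom_ext (LinearMap.ext fun y => (Submodule.Quotient.mk_eq_zero _).2 y.2))
    have hS : S.ShortExact :=
      { exact := (ShortComplex.moduleCat_exact_iff_range_eq_ker S).2
          ((Submodule.range_subtype _).trans (Submodule.ker_mkQ _).symm)
        mono_f := (ModuleCat.mono_iff_injective _).2 Subtype.val_injective
        epi_g := (ModuleCat.epi_iff_surjective _).2 (Submodule.mkQ_surjective _) }
    refine isZero_homology_ext P hflat hS i (ih (ModuleCat.of R L) (fun r hr x => ?_) i hi)
      (isZero_homology_killed I P hP hI (ModuleCat.of R (N ⧸ L)) (fun r hr x => ?_) i hi)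
    · refine Subtype.ext ?_
      show r • (x.1 : N) = 0
      refine Submodule.smul_induction_on x.2 (fun a ha y _ => ?_) fun y z hy hz => by rw [smul_add, hy, hz, add_zero]
      rw [← mul_smul]
      exact hN _ (by rw [pow_succ]; exact Ideal.mul_mem_mul hr ha) y
    · obtain ⟨y, rfl⟩ := Submodule.mkQ_surjective L x
      exact (map_smul L.mkQ r y).symm.trans ((Submodule.Quotient.mk_eq_zero _).2
        (Submodule.smul_mem_smul hr Submodule.mem_top))

/-- An object with bounded above reduction modulo a nilpotent ideal is bounded above. -/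
theorem exists_free_rep_of_reduction [DRing.HasLBaseChange (Ideal.Quotient.mk I)] (hI : IsNilpotent I)
    (K : Dual.D R) {E : DRing.Cx (R ⧸ I)} {c : ℤ} (hc : ∀ i, c < i → IsZero (E.X i))
    (e : DRing.toD E ≅ (DRing.LBaseChange (Ideal.Quotient.mk I)).obj K) :
    ∃ F : DRing.Cx R, (∀ i, c < i → IsZero (F.X i)) ∧ (∀ i, Module.Free R (F.X i)) ∧
      Nonempty (DRing.toD F ≅ K) := by
  obtain ⟨P, hP, ⟨eP⟩⟩ := DRingLib.exists_good_rep K
  obtain ⟨n, hn⟩ := hI
  have hz : ∀ j, c < j → IsZero (((LiftCxLib.extI I).obj P).homology j) := fun j hj =>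
    ((DRingLib.isZero_Hn_Q E j (hc j hj)).of_iso
      ((DerivedCategory.homologyFunctor _ j).mapIso
        ((DRingLib.lBaseChangeObjIso (Ideal.Quotient.mk I) P hP.1).symm ≪≫
          (DRing.LBaseChange (Ideal.Quotient.mk I)).mapIso eP ≪≫ e.symm))).of_iso
      ((DerivedCategory.homologyFunctorFactors (ModuleCat.{u} (R ⧸ I)) j).app _).symm
  have h1 : ∀ i, c < i → IsZero (P.homology i) := fun i hi => by
    have h := isZero_homology_pow I P hP.1 hP.2 hz n (𝟙_ (ModuleCat.{u} R)) (fun r hr x => ?_) i hi
    · let e₀ : tensorN P (𝟙_ (ModuleCat.{u} R)) ≅ P :=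
        HomologicalComplex.Hom.isoOfComponents (fun m => ρ_ (P.X m))
          (fun p q _ => (rightUnitor_naturality (P.d p q)).symm)
      exact h.of_iso ((HomologicalComplex.homologyFunctor _ _ i).mapIso e₀).symm
    · rw [hn] at hr
      rw [(Submodule.mem_bot R).1 hr, zero_smul]
  exact DRingLib.exists_free_rep K c fun i hi =>
    ((h1 i hi).of_iso ((DerivedCategory.homologyFunctorFactors _ i).app P)).of_iso
      ((DerivedCategory.homologyFunctor _ i).mapIso eP.symm)

end Groth.Agent.LiftCxLib.Killed
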