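import Groth.Agent.LiftCxLib.Reduction
import Groth.Agent.KFlatLib.Cone

/-!
# Lifting representatives modulo an ideal
-/

set_option autoImplicit false
set_option linter.style.haveILetI false

universe u

open CategoryTheory CategoryTheory.Limits

attribute [local instance] HasDerivedCategory.standard

namespace Groth.Agent.LiftCxLib

variable {R : Type u} [CommRing R] {I : Ideal R} {Pc : ObjectProperty (ModuleCat.{u} R)}

theorem exists_shift {A B : ℤ → ModuleCat.{u} R} (F : ∀ i, A (i + 1) →ₗ[R] B (i + 1)) :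
    ∃ G : ∀ j, A j →ₗ[R] B j, ∀ i, G (i + 1) = F i := by
  have h : ∀ j, ∃ G : A j →ₗ[R] B j, ∀ i (e : i + 1 = j), G = e ▸ F i := fun j => by
    obtain ⟨i, rfl⟩ : ∃ i, j = i + 1 := ⟨j - 1, by omega⟩
    refine ⟨F i, fun k e => ?_⟩
    obtain rfl : k = i := by omega
    rfl
  choose G hG using h
  exact ⟨G, fun i => hG (i + 1) i rfl⟩

/-- Reductions of the cone of a map of reduced complexes. -/
theorem red_cone {Qb E : CochainComplex (ModuleCat.{u} R) ℤ} (α : Qb ⟶ E) (i : ℤ)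
    {A B : ModuleCat.{u} R} {q : A →ₗ[R] Qb.X (i + 1)} {p : B →ₗ[R] E.X i} (hq : Red I q) (hp : Red I p) :
    ∃ p' : (A × B : Type u) →ₗ[R] (CochainComplex.mappingCone α).X i, Red I p' ∧
      (∀ x, ((CochainComplex.mappingCone.fst α).1.v i (i + 1) rfl).hom (p' x) = q x.1) ∧
      (∀ x, ((CochainComplex.mappingCone.snd α).v i i (add_zero i)).hom (p' x) = p x.2) := by
  let a := ((CochainComplex.mappingCone.inl α).v (i + 1) i (by omega)).hom
  let c := ((CochainComplex.mappingCone.inr α).f i).hom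
  let p' : (A × B : Type u) →ₗ[R] (CochainComplex.mappingCone α).X i := (a ∘ₗ q).coprod (c ∘ₗ p)
  have h1 : ∀ x, ((CochainComplex.mappingCone.fst α).1.v i (i + 1) rfl).hom (p' x) = q x.1 := fun x => by
    have e1 := congrArg (fun t => t.hom (q x.1)) (CochainComplex.mappingCone.inl_v_fst_v α (i + 1) i rfl)
    have e2 := congrArg (fun t => t.hom (p x.2)) (CochainComplex.mappingCone.inr_f_fst_v α i (i + 1) rfl)
    simp only [p', LinearMap.coprod_apply, LinearMap.comp_apply, map_add]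
    exact (congrArg₂ (· + ·) e1 e2).trans (add_zero _)
  have h2 : ∀ x, ((CochainComplex.mappingCone.snd α).v i i (add_zero i)).hom (p' x) = p x.2 := fun x => by
    have e1 := congrArg (fun t => t.hom (q x.1)) (CochainComplex.mappingCone.inl_v_snd_v α (i + 1) i (by omega))
    have e2 := congrArg (fun t => t.hom (p x.2)) (CochainComplex.mappingCone.inr_f_snd_v α i)
    simp only [p', LinearMap.coprod_apply, LinearMap.comp_apply, map_add]
    exact (congrArg₂ (· + ·) e1 e2).trans (zero_add _)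
  refine ⟨p', ⟨fun z => ?_, le_antisymm (fun x hx => ?_) ?_⟩, h1, h2⟩
  · obtain ⟨u, hu⟩ := hq.surj (((CochainComplex.mappingCone.fst α).1.v i (i + 1) rfl).hom z)
    obtain ⟨v, hv⟩ := hp.surj (((CochainComplex.mappingCone.snd α).v i i (add_zero i)).hom z)
    refine ⟨(u, v), ?_⟩
    simp only [p', LinearMap.coprod_apply, LinearMap.comp_apply, hu, hv]
    exact congrArg (fun t => t.hom z) (CochainComplex.mappingCone.id_X α i (i + 1) rfl)
  · have hu : x.1 ∈ LinearMap.ker q := by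
      rw [LinearMap.mem_ker, ← h1, LinearMap.mem_ker.1 hx, map_zero]
    have hv : x.2 ∈ LinearMap.ker p := by
      rw [LinearMap.mem_ker, ← h2, LinearMap.mem_ker.1 hx, map_zero]
    rw [hq.ker] at hu
    rw [hp.ker] at hv
    have hu' := Submodule.mem_map_of_mem (f := LinearMap.inl R A B) hu
    have hv' := Submodule.mem_map_of_mem (f := LinearMap.inr R A B) hv
    rw [Submodule.map_smul''] at hu' hv'
    have h3 := Submodule.add_mem _ (Submodule.smul_mono le_rfl (le_top (α := Submodule R (A × B))) hu')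
      (Submodule.smul_mono le_rfl (le_top (α := Submodule R (A × B))) hv')
    simpa using h3
  · refine Submodule.smul_le.2 fun r hr x _ => ?_
    have hu : r • x.1 ∈ LinearMap.ker q := hq.ker ▸ Submodule.smul_mem_smul hr Submodule.mem_top
    have hv : r • x.2 ∈ LinearMap.ker p := hp.ker ▸ Submodule.smul_mem_smul hr Submodule.mem_top
    show p' (r • x) = 0
    show a (q (r • x.1)) + c (p (r • x.2)) = 0
    rw [LinearMap.mem_ker.1 hu, LinearMap.mem_ker.1 hv, map_zero, map_zero, add_zero]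

/-- The shifted projection out of a contractible lift. -/
theorem exists_proj {X Q : ℤ → ModuleCat.{u} R} (d : ∀ i, X i →ₗ[R] X (i + 1))
    (s : ∀ i, X (i + 1) →ₗ[R] X i) (hd : ∀ i x, d (i + 1) (d i x) = 0)
    (hs : ∀ i x, d i (s i x) + s (i + 1) (d (i + 1) x) = x) (dQ : ∀ i, Q i →ₗ[R] Q (i + 1))
    (hdQ : ∀ i x, dQ (i + 1) (dQ i x) = 0) (fst : ∀ i, X i →ₗ[R] Q (i + 1))
    {Qb : ℤ → ModuleCat.{u} R} (dQb : ∀ i, Qb i →ₗ[R] Qb (i + 1)) (q : ∀ i, Q i →ₗ[R] Qb i)
    (hq : ∀ i x, q (i + 1) (dQ i x) = dQb i (q i x))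
    (hfst : ∀ i x, q (i + 1 + 1) (fst (i + 1) (d i x)) = - dQb (i + 1) (q (i + 1) (fst i x))) :
    ∃ π : ∀ i, X i →ₗ[R] Q (i + 1), (∀ i x, π (i + 1) (d i x) = - dQ (i + 1) (π i x)) ∧
      ∀ i x, q (i + 1) (π i x) = q (i + 1) (fst i x) := by
  obtain ⟨h, hh⟩ := exists_shift (A := X) (B := Q) (fun i => fst i ∘ₗ s i)
  have hh' : ∀ i x, h (i + 1) x = fst i (s i x) := fun i x => by rw [hh]; rfl
  refine ⟨fun j => - (dQ j ∘ₗ h j) + h (j + 1) ∘ₗ d j, fun i x => ?_, fun j x => ?_⟩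
  · simp only [LinearMap.add_apply, LinearMap.neg_apply, LinearMap.comp_apply, map_add, map_neg, hd,
      map_zero, hdQ, neg_zero, add_zero, zero_add]
  · obtain ⟨i, rfl⟩ : ∃ i, j = i + 1 := ⟨j - 1, by omega⟩
    simp only [LinearMap.add_apply, LinearMap.neg_apply, LinearMap.comp_apply, map_add, map_neg, hq, hh']
    rw [← hfst, ← map_add, ← map_add, hs]

/-- The kernel of the shifted projection is homotopy equivalent to its source. -/
theorem exists_homotopyEquiv {X : ℤ → ModuleCat.{u} R} {Q : CochainComplex (ModuleCat.{u} R) ℤ}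
    (d : ∀ i, X i →ₗ[R] X (i + 1)) (hd : ∀ i x, d (i + 1) (d i x) = 0)
    (s : ∀ i, X (i + 1) →ₗ[R] X i) (hs : ∀ i x, d i (s i x) + s (i + 1) (d (i + 1) x) = x)
    (π : ∀ i, X i →ₗ[R] Q.X (i + 1))
    (hπ : ∀ i x, π (i + 1) (d i x) = - (Q.d (i + 1) (i + 1 + 1)).hom (π i x))
    (σ : ∀ i, Q.X (i + 1) →ₗ[R] X i) (hσ : ∀ i y, π i (σ i y) = y)
    (P : CochainComplex (ModuleCat.{u} R) ℤ) (ι : ∀ i, P.X i →ₗ[R] X i)
    (hι : ∀ i, Function.Injective (ι i)) (hr : ∀ i, LinearMap.range (ι i) = LinearMap.ker (π i))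
    (hιd : ∀ i x, ι (i + 1) ((P.d i (i + 1)).hom x) = d i (ι i x)) :
    Nonempty (DerivedCategory.Q.obj P ≅ DerivedCategory.Q.obj Q) := by
  have hdd : ∀ i x, (Q.d (i + 1) (i + 1 + 1)).hom ((Q.d i (i + 1)).hom x) = 0 := fun i x =>
    congrArg (fun q => q.hom x) (Q.d_comp_d i (i + 1) (i + 1 + 1))
  obtain ⟨K, hK⟩ := exists_shift (A := Q.X) (B := X) (fun i => d i ∘ₗ σ i)
  have hK' : ∀ i y, K (i + 1) y = d i (σ i y) := fun i y => by rw [hK]; rfl
  obtain ⟨Ψ, hΨ⟩ := exists_shift (A := X) (B := Q.X) (fun i => π i ∘ₗ s i)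
  have hΨ' : ∀ i x, Ψ (i + 1) x = π i (s i x) := fun i x => by rw [hΨ]; rfl
  let T : ∀ j, Q.X j →ₗ[R] X j := fun j => K j + σ j ∘ₗ (Q.d j (j + 1)).hom
  have hT : ∀ j y, π j (T j y) = 0 := fun j y => by
    obtain ⟨i, rfl⟩ : ∃ i, j = i + 1 := ⟨j - 1, by omega⟩
    simp only [T, LinearMap.add_apply, LinearMap.comp_apply, map_add, hK', hπ, hσ, neg_add_cancel]
  have hTd : ∀ j y, T (j + 1) ((Q.d j (j + 1)).hom y) = d j (T j y) := fun j y => by
    obtain ⟨i, rfl⟩ : ∃ i, j = i + 1 := ⟨j - 1, by omega⟩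
    simp only [T, LinearMap.add_apply, LinearMap.comp_apply, map_add, hK', hd, hdd, map_zero, add_zero,
      zero_add]
  let e := fun j => LinearEquiv.ofInjective (ι j) (hι j)
  let cor : ∀ j {M : ModuleCat.{u} R} (g : M →ₗ[R] X j), (∀ m, π j (g m) = 0) → (M →ₗ[R] P.X j) :=
    fun j _ g hg => (e j).symm.toLinearMap ∘ₗ g.codRestrict _ fun m =>
      (hr j).ge (LinearMap.mem_ker.2 (hg m))
  have hcor : ∀ j {M : ModuleCat.{u} R} (g : M →ₗ[R] X j) (hg : ∀ m, π j (g m) = 0) (m : M),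
      ι j (cor j g hg m) = g m := fun j _ g hg m =>
    congrArg Subtype.val ((e j).apply_symm_apply ⟨g m, (hr j).ge (LinearMap.mem_ker.2 (hg m))⟩)
  let θ : Q ⟶ P :=
    { f := fun j => ModuleCat.ofHom (cor j (T j) (hT j))
      comm' := fun j k hjk => by
        obtain rfl : j + 1 = k := hjk
        refine ModuleCat.hom_ext (LinearMap.ext fun y => hι (j + 1) ?_)
        show ι (j + 1) ((P.d j (j + 1)).hom (cor j (T j) (hT j) y)) =
          ι (j + 1) (cor (j + 1) (T (j + 1)) (hT (j + 1)) ((Q.d j (j + 1)).hom y))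
        rw [hιd, hcor _ _ (hT j), hcor _ _ (hT (j + 1)), hTd] }
  have hker : ∀ j x, π j (ι j x) = 0 := fun j x =>
    LinearMap.mem_ker.1 ((hr j).le (LinearMap.mem_range_self _ x))
  let ψ : P ⟶ Q :=
    { f := fun j => ModuleCat.ofHom (Ψ j ∘ₗ ι j)
      comm' := fun j k hjk => by
        obtain rfl : j + 1 = k := hjk
        obtain ⟨i, rfl⟩ : ∃ i, j = i + 1 := ⟨j - 1, by omega⟩
        refine ModuleCat.hom_ext (LinearMap.ext fun x => ?_)
        show (Q.d (i + 1) (i + 1 + 1)).hom (Ψ (i + 1) (ι (i + 1) x)) =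
          Ψ (i + 1 + 1) (ι (i + 1 + 1) ((P.d (i + 1) (i + 1 + 1)).hom x))
        rw [hιd, hΨ', hΨ', ← neg_inj, ← hπ, ← map_neg, ← sub_eq_zero, ← map_sub, sub_neg_eq_add, hs,
          hker] }
  have hker' : ∀ i (x : P.X (i + 1)), π i (s i (ι (i + 1) x) - σ i (π i (s i (ι (i + 1) x)))) = 0 :=
    fun i x => by rw [map_sub, hσ, sub_self]
  let k : ∀ i, P.X (i + 1) →ₗ[R] P.X i := fun i =>
    cor i ((LinearMap.id - σ i ∘ₗ π i) ∘ₗ s i ∘ₗ ι (i + 1)) (hker' i)
  let k' : ∀ i, Q.X (i + 1 + 1) →ₗ[R] Q.X (i + 1) := fun i => π i ∘ₗ s i ∘ₗ σ (i + 1)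
  obtain ⟨l, hl⟩ := exists_shift (A := fun i => Q.X (i + 1)) (B := Q.X) k'
  let hP : ∀ j i, (ComplexShape.up ℤ).Rel i j → (P.X j ⟶ P.X i) := fun j i h =>
    eqToHom (congrArg P.X (show j = i + 1 from h.symm)) ≫ ModuleCat.ofHom (k i)
  let hQ : ∀ j i, (ComplexShape.up ℤ).Rel i j → (Q.X j ⟶ Q.X i) := fun j i h =>
    eqToHom (congrArg Q.X (show j = i + 1 from h.symm)) ≫ ModuleCat.ofHom (l i)
  have hrel : ∀ i : ℤ, (ComplexShape.up ℤ).Rel i (i + 1) := fun i => rfl
  have eP : 𝟙 P - ψ ≫ θ = Homotopy.nullHomotopicMap' hP := HomologicalComplex.hom_ext _ _ fun j => by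
    obtain ⟨i, rfl⟩ : ∃ i, j = i + 1 := ⟨j - 1, by omega⟩
    rw [Homotopy.nullHomotopicMap'_f (hrel i) (hrel (i + 1)), HomologicalComplex.sub_f_apply,
      HomologicalComplex.comp_f, HomologicalComplex.id_f]
    refine ModuleCat.hom_ext (LinearMap.ext fun x => hι (i + 1) ?_)
    show ι (i + 1) (x - cor (i + 1) (T (i + 1)) (hT (i + 1)) (Ψ (i + 1) (ι (i + 1) x))) =
      ι (i + 1) (k (i + 1) ((P.d (i + 1) (i + 1 + 1)).hom x) + (P.d i (i + 1)).hom (k i x))
    simp only [map_sub, map_add, hcor, hιd, k, LinearMap.comp_apply, LinearMap.sub_apply,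
      LinearMap.id_apply, T, LinearMap.add_apply, hK', hΨ']
    have hψd : (Q.d (i + 1) (i + 1 + 1)).hom (π i (s i (ι (i + 1) x))) =
        π (i + 1) (s (i + 1) (d (i + 1) (ι (i + 1) x))) := by
      rw [← neg_inj, ← hπ, ← map_neg, ← sub_eq_zero, ← map_sub, sub_neg_eq_add, hs, hker]
    rw [hψd]
    conv_lhs => rw [← hs i (ι (i + 1) x)]
    simp only [hs i (ι (i + 1) x)]
    have := hs i (ι (i + 1) x)
    grind
  have eQ : θ ≫ ψ - 𝟙 Q = Homotopy.nullHomotopicMap' hQ := HomologicalComplex.hom_ext _ _ fun j => by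
    obtain ⟨i, rfl⟩ : ∃ i, j = i + 1 := ⟨j - 1, by omega⟩
    obtain ⟨n, rfl⟩ : ∃ n, i = n + 1 := ⟨i - 1, by omega⟩
    rw [Homotopy.nullHomotopicMap'_f (hrel (n + 1)) (hrel (n + 1 + 1)), HomologicalComplex.sub_f_apply,
      HomologicalComplex.comp_f, HomologicalComplex.id_f]
    refine ModuleCat.hom_ext (LinearMap.ext fun y => ?_)
    show Ψ (n + 1 + 1) (ι (n + 1 + 1) (cor (n + 1 + 1) (T (n + 1 + 1)) (hT (n + 1 + 1)) y)) - y =
      l (n + 1 + 1) ((Q.d (n + 1 + 1) (n + 1 + 1 + 1)).hom y) + (Q.d (n + 1) (n + 1 + 1)).hom (l (n + 1) y)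
    have h2 : ∀ z, d n (s n z) = z - s (n + 1) (d (n + 1) z) := fun z => eq_sub_of_add_eq (hs n z)
    have h3 : s (n + 1) (d (n + 1) (σ (n + 1) y)) = σ (n + 1) y - d n (s n (σ (n + 1) y)) := by
      rw [h2, sub_sub_cancel]
    simp only [hcor, T, LinearMap.add_apply, LinearMap.comp_apply, hK', hΨ', hl, k', map_add, h3,
      map_sub, hπ, hσ]
    abel
  have h₁ : Homotopy (ψ ≫ θ) (𝟙 P) :=
    (Homotopy.equivSubZero.symm ((Homotopy.ofEq eP).trans (Homotopy.nullHomotopy' hP))).symm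
  have h₂ : Homotopy (θ ≫ ψ) (𝟙 Q) :=
    Homotopy.equivSubZero.symm ((Homotopy.ofEq eQ).trans (Homotopy.nullHomotopy' hQ))
  let he : HomotopyEquiv P Q := ⟨ψ, θ, h₁, h₂⟩
  haveI : ∀ n, P.HasHomology n := fun n => inferInstance
  haveI : ∀ n, Q.HasHomology n := fun n => inferInstance
  have : QuasiIso ψ := HomotopyEquiv.quasiIso_hom he
  exact ⟨asIso (DerivedCategory.Q.map ψ)⟩

/-- A representative lifting a reduced representative. -/
theorem exists_lift (hc : Cls I Pc) (hprod : ∀ X Y : ModuleCat.{u} R, Pc X → Pc Y → Pc (ModuleCat.of R (X × Y)))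
    (Q : CochainComplex (ModuleCat.{u} R) ℤ) (c : ℤ) (hQb : ∀ i, c < i → IsZero (Q.X i)) (hQ : ∀ i, Pc (Q.X i))
    {Qb E : CochainComplex (ModuleCat.{u} R) ℤ} (g : Q ⟶ Qb) (hg : ∀ i, Red I (g.f i).hom) (α : Qb ⟶ E)
    [QuasiIso α] {X : ℤ → ModuleCat.{u} R} (p : ∀ i, X i →ₗ[R] E.X i) (hX : ∀ i, Pc (X i))
    (hp : ∀ i, Red I (p i)) (b : ℤ) (hb : ∀ i, b < i → IsZero (X i)) :
    ∃ (P : CochainComplex (ModuleCat.{u} R) ℤ) (g' : P ⟶ E),
      (∀ i, max b c < i → IsZero (P.X i)) ∧ (∀ i, Pc (P.X i)) ∧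
      Nonempty (DerivedCategory.Q.obj P ≅ DerivedCategory.Q.obj Q) ∧ ∀ i, Red I (g'.f i).hom := by
  let C := CochainComplex.mappingCone α
  let X' : ℤ → ModuleCat.{u} R := fun i => ModuleCat.of R (Q.X (i + 1) × X i)
  choose p' hp' hfst hsnd using fun i => red_cone (I := I) α i (hg (i + 1)) (hp i)
  have hz' : ∀ i, max b c < i → IsZero (X' i) := fun i hi => by
    haveI := ModuleCat.subsingleton_of_isZero (hQb (i + 1) (by omega))
    haveI := ModuleCat.subsingleton_of_isZero (hb i (by omega))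
    exact ModuleCat.isZero_of_subsingleton _
  obtain ⟨d, s, hd, hs, hpd⟩ := exists_lift_acyclic hc (X := X') (fun i => hprod _ _ (hQ (i + 1)) (hX i))
    (p := p') hp' (exact_elements (fun i => ((HomologicalComplex.exactAt_iff_isZero_homology C i).2
      ((KFlatLib.acyclic_cone_iff α).2 inferInstance i)))) (max b c) hz'
  have hgd : ∀ i x, (g.f (i + 1)).hom ((Q.d i (i + 1)).hom x) = (Qb.d i (i + 1)).hom ((g.f i).hom x) :=
    fun i x => congrArg (fun t => t.hom x) (g.comm i (i + 1)).symm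
  obtain ⟨π, hπ, hπq⟩ := exists_proj (X := X') (Q := Q.X) d s hd hs (fun i => (Q.d i (i + 1)).hom)
    (fun i x => congrArg (fun t => t.hom x) (Q.d_comp_d i (i + 1) (i + 1 + 1)))
    (fun i => LinearMap.fst R (Q.X (i + 1)) (X i)) (fun i => (Qb.d i (i + 1)).hom)
    (fun i => (g.f i).hom) hgd fun i x => by
      have h := congrArg (fun t => t.hom (p' i x))
        (CochainComplex.mappingCone.d_fst_v α i (i + 1) (i + 1 + 1) rfl rfl)
      simp only [ModuleCat.hom_comp, ModuleCat.hom_neg, LinearMap.neg_apply, LinearMap.comp_apply] at h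
      rw [← hpd, hfst, hfst] at h
      exact h.trans (neg_inj.2 rfl)
  have hπs : ∀ i, Function.Surjective (π i) := fun i =>
    hc.surj (X' i) (Q.X (i + 1)) (ModuleCat.ofHom (π i)) (hprod _ _ (hQ (i + 1)) (hX i)) (hQ (i + 1))
      (sup_smul_eq_top (π i) (g.f (i + 1)).hom (hg (i + 1)).ker fun y => ⟨(y, 0), hπq i _⟩)
  choose σ hσ using fun i => (hc.exists_section (X := X' i) (Y := Q.X (i + 1))
    (hprod _ _ (hQ (i + 1)) (hX i)) (hQ (i + 1)) (π i) (hπs i)).1
  let M : ℤ → ModuleCat.{u} R := fun i => ModuleCat.of R (LinearMap.ker (π i))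
  let dM : ∀ i, M i →ₗ[R] M (i + 1) := fun i => (d i).restrict fun x hx => by
    rw [LinearMap.mem_ker] at hx ⊢
    rw [hπ, hx, map_zero, neg_zero]
  let P := cxOf M dM fun i x => Subtype.ext (hd i x.1)
  have hPd : ∀ i x, ((P.d i (i + 1)).hom x : X' (i + 1)) = d i (x : X' i) := fun i x => by
    rw [cxOf_d]
    rfl
  obtain ⟨eP⟩ := exists_homotopyEquiv d hd s hs π hπ σ hσ P
    (fun i => (LinearMap.ker (π i)).subtype) (fun i => Subtype.val_injective)
    (fun i => Submodule.range_subtype _) hPd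
  have hfz : ∀ i (x : X' i), π i x = 0 → ((CochainComplex.mappingCone.fst α).1.v i (i + 1) rfl).hom (p' i x) = 0 :=
    fun i x hx => by
      rw [hfst]
      refine Eq.trans (hπq i x).symm ?_
      rw [hx, map_zero]
  let g' : P ⟶ E :=
    { f := fun i => ModuleCat.ofHom (p i ∘ₗ LinearMap.snd R (Q.X (i + 1)) (X i) ∘ₗ (LinearMap.ker (π i)).subtype)
      comm' := fun i j hij => by
        obtain rfl : i + 1 = j := hij
        refine ModuleCat.hom_ext (LinearMap.ext fun x => ?_)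
        show (E.d i (i + 1)).hom (p i (x : X' i).2) = p (i + 1) ((P.d i (i + 1)).hom x : X' (i + 1)).2
        rw [hPd, ← hsnd (i + 1), hpd, ← hsnd i]
        have h := congrArg (fun t => t.hom (p' i x.1)) (CochainComplex.mappingCone.d_snd_v α i (i + 1) rfl)
        simp only [ModuleCat.hom_comp, ModuleCat.hom_add, LinearMap.add_apply, LinearMap.comp_apply,
          hfz i x.1 (LinearMap.mem_ker.1 x.2), map_zero, zero_add] at h
        exact h.symm }
  refine ⟨P, g', fun i hi => ?_, fun i => (hc.exists_section (X := X' i) (Y := Q.X (i + 1))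
    (hprod _ _ (hQ (i + 1)) (hX i)) (hQ (i + 1)) (π i) (hπs i)).2, ⟨eP⟩, fun i => ⟨fun e => ?_, ?_⟩⟩
  · haveI := ModuleCat.subsingleton_of_isZero (hz' i hi)
    exact ModuleCat.isZero_of_subsingleton _
  · obtain ⟨x, rfl⟩ := (hp i).surj e
    let y : X' i := (0, x)
    have h0 : π i y ∈ LinearMap.ker (g.f (i + 1)).hom := by
      rw [LinearMap.mem_ker, hπq]
      exact map_zero _
    rw [(hg (i + 1)).ker, ← LinearMap.range_eq_top.2 (hπs i), LinearMap.range_eq_map,
      ← Submodule.map_smul''] at h0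
    obtain ⟨y', hy', hyy⟩ := h0
    refine ⟨⟨y - y', by simp [hyy]⟩, ?_⟩
    show p i (y - y').2 = p i x
    have h4 : p' i y' = 0 := LinearMap.mem_ker.1 ((hp' i).ker.ge hy')
    show p i (y.2 - y'.2) = p i x
    rw [map_sub, ← hsnd i y', h4, map_zero, sub_zero]
  · refine le_antisymm (fun x hx => ?_) (Submodule.smul_le.2 fun r hr x _ => ?_)
    · have h2 : (x : X' i) ∈ I • (⊤ : Submodule R (X' i)) := by
        rw [← (hp' i).ker, LinearMap.mem_ker]
        have h := congrArg (fun t => t.hom (p' i x.1)) (CochainComplex.mappingCone.id_X α i (i + 1) rfl)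
        simp only [ModuleCat.hom_add, ModuleCat.hom_comp, LinearMap.add_apply, LinearMap.comp_apply,
          hfz i x.1 (LinearMap.mem_ker.1 x.2), map_zero, zero_add, hsnd] at h
        rw [show p i x.1.2 = 0 from hx, map_zero] at h
        exact h.symm
      refine (Submodule.mem_smul_top_iff I (LinearMap.ker (π i)) x).2 ?_
      have h3 := Submodule.mem_map_of_mem (f := LinearMap.id - σ i ∘ₗ π i) h2
      rw [Submodule.map_smul''] at h3
      rw [LinearMap.sub_apply, LinearMap.comp_apply, LinearMap.mem_ker.1 x.2, map_zero, sub_zero] at h3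
      refine Submodule.smul_mono le_rfl ?_ h3
      rintro _ ⟨z, -, rfl⟩
      simp [hσ]
    · show p i (r • (x : X' i)).2 = 0
      exact LinearMap.mem_ker.1 ((hp i).ker.ge (Submodule.smul_mem_smul hr Submodule.mem_top))

end Groth.Agent.LiftCxLib
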